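import Cfsg.Agent.Spor.HeP960.D0

set_option autoImplicit false
set_option maxRecDepth 100000000
set_option Elab.async false

namespace Cfsg.Agent.Spor.HeP960

theorem ok0 : Net.okb 10 n0 = true := by decide +kernel

theorem ok1 : Net.okb 10 n1 = true := by decide +kernel

theorem ok2 : Net.okb 10 n2 = true := by decide +kernel

theorem ok3 : Net.okb 10 n3 = true := by decide +kernel

theorem ok4 : Net.okb 10 n4 = true := by decide +kernel

theorem ok5 : Net.okb 10 n5 = true := by decide +kernel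

theorem rel0 : T.rel 10 [1, 1] 0 10 = true := by decide +kernel

theorem rel1 : T.rel 10 [2, 2] 0 10 = true := by decide +kernel

theorem rel2 : T.rel 10 [3, 3] 0 10 = true := by decide +kernel

theorem rel3 : T.rel 10 [4, 4] 0 10 = true := by decide +kernel

theorem rel4 : T.rel 10 [5, 5] 0 10 = true := by decide +kernel

theorem rel5 : T.rel 10 [6, 6] 0 10 = true := by decide +kernel

theorem rel6 : T.rel 10 [2, 1, 2, 1] 0 10 = true := by decide +kernel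

theorem rel7 : T.rel 10 [3, 1, 3, 1] 0 10 = true := by decide +kernel

theorem rel8 : T.rel 10 [4, 1, 4, 1] 0 10 = true := by decide +kernel

theorem rel9 : T.rel 10 [5, 1, 5, 1] 0 10 = true := by decide +kernel

theorem rel10 : T.rel 10 [6, 1, 6, 1] 0 10 = true := by decide +kernel

theorem rel11 : T.rel 10 [3, 2, 3, 2, 3, 2, 3, 2, 3, 2, 3, 2, 3, 2, 3, 2, 3, 2, 3, 2] 0 10 = true := by decide +kernel

theorem rel12 : T.rel 10 [4, 2, 4, 2] 0 10 = true := by decide +kernel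

theorem rel13 : T.rel 10 [5, 2, 5, 2] 0 10 = true := by decide +kernel

theorem rel14 : T.rel 10 [6, 2, 6, 2] 0 10 = true := by decide +kernel

theorem rel15 : T.rel 10 [4, 3, 4, 3, 4, 3] 0 10 = true := by decide +kernel

theorem rel16 : T.rel 10 [5, 3, 5, 3, 5, 3] 0 10 = true := by decide +kernel

theorem rel17 : T.rel 10 [6, 3, 6, 3, 6, 3] 0 10 = true := by decide +kernel

theorem rel18 : T.rel 10 [5, 4, 5, 4] 0 10 = true := by decide +kernel

theorem rel19 : T.rel 10 [6, 4, 6, 4] 0 10 = true := by decide +kernel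

theorem rel20 : T.rel 10 [6, 5, 6, 5, 6, 5, 6, 5] 0 10 = true := by decide +kernel

theorem rel21 : T.rel 10 [5, 6, 5, 6, 4] 0 10 = true := by decide +kernel

theorem rel22 : T.rel 10 [2, 3, 2, 3, 2, 3, 2, 3, 2, 3, 1] 0 10 = true := by decide +kernel

theorem rel23 : T.rel 10 [6, 5, 3, 2, 6, 5, 3, 2, 6, 5, 3, 2, 6, 5, 3, 2] 0 10 = true := by decide +kernel

theorem hcov : T.treeCov (ones 960) L 1 = true := by decide +kernel

theorem hg : lall (fun z => band (memL L z) (band (sub (ones 960) (T.let z).cl) (T.closed (ones 960) z))) gs = true := by decide +kernel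

theorem rot1_1 : T.rot 1 [1] (sel (ones 960) ip1 1) = true := by decide +kernel

theorem rot1_1r : band (Rule.ok (2 * 6) EX RL ⟨1 :: [1], [], 18, false⟩) (lall (memL L) [1]) = true := by decide +kernel

theorem rot1_2 : T.rot 1 [2, 1, 2] (sel (ones 960) ip1 2) = true := by decide +kernel

theorem rot1_2r : band (Rule.ok (2 * 6) EX RL ⟨1 :: [2, 1, 2], [], 0, false⟩) (lall (memL L) [2, 1, 2]) = true := by decide +kernel

theorem rot1_3 : T.rot 1 [3, 1, 3] (sel (ones 960) ip1 3) = true := by decide +kernel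

theorem rot1_3r : band (Rule.ok (2 * 6) EX RL ⟨1 :: [3, 1, 3], [], 1, false⟩) (lall (memL L) [3, 1, 3]) = true := by decide +kernel

theorem rot1_4 : T.rot 1 [4, 1, 4] (sel (ones 960) ip1 4) = true := by decide +kernel

theorem rot1_4r : band (Rule.ok (2 * 6) EX RL ⟨1 :: [4, 1, 4], [], 2, false⟩) (lall (memL L) [4, 1, 4]) = true := by decide +kernel

theorem rot1_5 : T.rot 1 [5, 1, 5] (sel (ones 960) ip1 5) = true := by decide +kernel

theorem rot1_5r : band (Rule.ok (2 * 6) EX RL ⟨1 :: [5, 1, 5], [], 3, false⟩) (lall (memL L) [5, 1, 5]) = true := by decide +kernel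

theorem rot1_6 : T.rot 1 [6, 1, 6] (sel (ones 960) ip1 6) = true := by decide +kernel

theorem rot1_6r : band (Rule.ok (2 * 6) EX RL ⟨1 :: [6, 1, 6], [], 4, false⟩) (lall (memL L) [6, 1, 6]) = true := by decide +kernel

theorem rot1_7 : T.rot 1 [2, 3, 2, 3, 2, 3, 2, 3, 2, 3] (sel (ones 960) ip1 7) = true := by decide +kernel

theorem rot1_7r : band (Rule.ok (2 * 6) EX RL ⟨1 :: [2, 3, 2, 3, 2, 3, 2, 3, 2, 3], [0], 16, true⟩) (lall (memL L) [2, 3, 2, 3, 2, 3, 2, 3, 2, 3]) = true := by decide +kernel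

theorem rot1_8 : T.rot 1 [3, 2, 3, 2, 3, 2, 3, 2, 3, 2] (sel (ones 960) ip1 8) = true := by decide +kernel

theorem rot1_8r : band (Rule.ok (2 * 6) EX RL ⟨1 :: [3, 2, 3, 2, 3, 2, 3, 2, 3, 2], [], 16, false⟩) (lall (memL L) [3, 2, 3, 2, 3, 2, 3, 2, 3, 2]) = true := by decide +kernel

theorem cov1 : T.cover 1 [(sel (ones 960) ip1 1), (sel (ones 960) ip1 2), (sel (ones 960) ip1 3), (sel (ones 960) ip1 4), (sel (ones 960) ip1 5), (sel (ones 960) ip1 6), (sel (ones 960) ip1 7), (sel (ones 960) ip1 8)] = true := by decide +kernel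

theorem tl1 : T.treeLt 10 1 = true := by decide +kernel

theorem rot2_1 : T.rot 2 [2] (sel (ones 960) ip2 1) = true := by decide +kernel

theorem rot2_1r : band (Rule.ok (2 * 6) EX RL ⟨2 :: [2], [], 18, false⟩) (lall (memL L) [2]) = true := by decide +kernel

theorem rot2_2 : T.rot 2 [1, 2, 1] (sel (ones 960) ip2 2) = true := by decide +kernel

theorem rot2_2r : band (Rule.ok (2 * 6) EX RL ⟨2 :: [1, 2, 1], [], 0, true⟩) (lall (memL L) [1, 2, 1]) = true := by decide +kernel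

theorem rot2_3 : T.rot 2 [4, 2, 4] (sel (ones 960) ip2 3) = true := by decide +kernel

theorem rot2_3r : band (Rule.ok (2 * 6) EX RL ⟨2 :: [4, 2, 4], [], 6, false⟩) (lall (memL L) [4, 2, 4]) = true := by decide +kernel

theorem rot2_4 : T.rot 2 [5, 2, 5] (sel (ones 960) ip2 4) = true := by decide +kernel

theorem rot2_4r : band (Rule.ok (2 * 6) EX RL ⟨2 :: [5, 2, 5], [], 7, false⟩) (lall (memL L) [5, 2, 5]) = true := by decide +kernel

theorem rot2_5 : T.rot 2 [6, 2, 6] (sel (ones 960) ip2 5) = true := by decide +kernel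

theorem rot2_5r : band (Rule.ok (2 * 6) EX RL ⟨2 :: [6, 2, 6], [], 8, false⟩) (lall (memL L) [6, 2, 6]) = true := by decide +kernel

theorem rot2_6 : T.rot 2 [3, 2, 3, 2, 3, 2, 3, 2, 3, 1] (sel (ones 960) ip2 6) = true := by decide +kernel

theorem rot2_6r : band (Rule.ok (2 * 6) EX RL ⟨2 :: [3, 2, 3, 2, 3, 2, 3, 2, 3, 1], [], 16, true⟩) (lall (memL L) [3, 2, 3, 2, 3, 2, 3, 2, 3, 1]) = true := by decide +kernel

theorem rot2_7 : T.rot 2 [3, 2, 3, 2, 3, 2, 3, 1, 2, 3] (sel (ones 960) ip2 7) = true := by decide +kernel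

theorem rot2_7r : band (Rule.ok (2 * 6) EX RL ⟨2 :: [3, 2, 3, 2, 3, 2, 3, 1, 2, 3], [2, 4], 16, true⟩) (lall (memL L) [3, 2, 3, 2, 3, 2, 3, 1, 2, 3]) = true := by decide +kernel

theorem rot2_8 : T.rot 2 [3, 2, 3, 2, 3, 1, 2, 3, 2, 3] (sel (ones 960) ip2 8) = true := by decide +kernel

theorem rot2_8r : band (Rule.ok (2 * 6) EX RL ⟨2 :: [3, 2, 3, 2, 3, 1, 2, 3, 2, 3], [2, 4, 2, 4], 16, true⟩) (lall (memL L) [3, 2, 3, 2, 3, 1, 2, 3, 2, 3]) = true := by decide +kernel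

theorem rot2_9 : T.rot 2 [3, 2, 3, 1, 2, 3, 2, 3, 2, 3] (sel (ones 960) ip2 9) = true := by decide +kernel

theorem rot2_9r : band (Rule.ok (2 * 6) EX RL ⟨2 :: [3, 2, 3, 1, 2, 3, 2, 3, 2, 3], [0, 4, 2, 4, 2], 16, true⟩) (lall (memL L) [3, 2, 3, 1, 2, 3, 2, 3, 2, 3]) = true := by decide +kernel

theorem rot2_10 : T.rot 2 [3, 1, 2, 3, 2, 3, 2, 3, 2, 3] (sel (ones 960) ip2 10) = true := by decide +kernel

theorem rot2_10r : band (Rule.ok (2 * 6) EX RL ⟨2 :: [3, 1, 2, 3, 2, 3, 2, 3, 2, 3], [0, 4, 2], 16, true⟩) (lall (memL L) [3, 1, 2, 3, 2, 3, 2, 3, 2, 3]) = true := by decide +kernel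

theorem rot2_11 : T.rot 2 [3, 2, 3, 2, 3, 2, 3, 2, 1, 3] (sel (ones 960) ip2 11) = true := by decide +kernel

theorem rot2_11r : band (Rule.ok (2 * 6) EX RL ⟨2 :: [3, 2, 3, 2, 3, 2, 3, 2, 1, 3], [0, 4], 16, false⟩) (lall (memL L) [3, 2, 3, 2, 3, 2, 3, 2, 1, 3]) = true := by decide +kernel

theorem rot2_12 : T.rot 2 [3, 2, 3, 2, 3, 2, 1, 3, 2, 3] (sel (ones 960) ip2 12) = true := by decide +kernel

theorem rot2_12r : band (Rule.ok (2 * 6) EX RL ⟨2 :: [3, 2, 3, 2, 3, 2, 1, 3, 2, 3], [0, 4, 2, 4], 16, false⟩) (lall (memL L) [3, 2, 3, 2, 3, 2, 1, 3, 2, 3]) = true := by decide +kernel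

theorem rot2_13 : T.rot 2 [3, 2, 3, 2, 1, 3, 2, 3, 2, 3] (sel (ones 960) ip2 13) = true := by decide +kernel

theorem rot2_13r : band (Rule.ok (2 * 6) EX RL ⟨2 :: [3, 2, 3, 2, 1, 3, 2, 3, 2, 3], [2, 4, 2, 4, 2], 16, false⟩) (lall (memL L) [3, 2, 3, 2, 1, 3, 2, 3, 2, 3]) = true := by decide +kernel

theorem rot2_14 : T.rot 2 [3, 2, 1, 3, 2, 3, 2, 3, 2, 3] (sel (ones 960) ip2 14) = true := by decide +kernel

theorem rot2_14r : band (Rule.ok (2 * 6) EX RL ⟨2 :: [3, 2, 1, 3, 2, 3, 2, 3, 2, 3], [2, 4, 2], 16, false⟩) (lall (memL L) [3, 2, 1, 3, 2, 3, 2, 3, 2, 3]) = true := by decide +kernel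

theorem rot2_15 : T.rot 2 [1, 3, 2, 3, 2, 3, 2, 3, 2, 3] (sel (ones 960) ip2 15) = true := by decide +kernel

theorem rot2_15r : band (Rule.ok (2 * 6) EX RL ⟨2 :: [1, 3, 2, 3, 2, 3, 2, 3, 2, 3], [2], 16, false⟩) (lall (memL L) [1, 3, 2, 3, 2, 3, 2, 3, 2, 3]) = true := by decide +kernel

theorem rot2_16 : T.rot 2 [6, 5, 3, 2, 6, 5, 3, 2, 6, 5, 3, 2, 6, 5, 3] (sel (ones 960) ip2 16) = true := by decide +kernel

theorem rot2_16r : band (Rule.ok (2 * 6) EX RL ⟨2 :: [6, 5, 3, 2, 6, 5, 3, 2, 6, 5, 3, 2, 6, 5, 3], [2], 17, true⟩) (lall (memL L) [6, 5, 3, 2, 6, 5, 3, 2, 6, 5, 3, 2, 6, 5, 3]) = true := by decide +kernel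

theorem rot2_17 : T.rot 2 [3, 5, 6, 2, 3, 5, 6, 2, 3, 5, 6, 2, 3, 5, 6] (sel (ones 960) ip2 17) = true := by decide +kernel

theorem rot2_17r : band (Rule.ok (2 * 6) EX RL ⟨2 :: [3, 5, 6, 2, 3, 5, 6, 2, 3, 5, 6, 2, 3, 5, 6], [], 17, false⟩) (lall (memL L) [3, 5, 6, 2, 3, 5, 6, 2, 3, 5, 6, 2, 3, 5, 6]) = true := by decide +kernel

theorem cov2 : T.cover 2 [(sel (ones 960) ip2 1), (sel (ones 960) ip2 2), (sel (ones 960) ip2 3), (sel (ones 960) ip2 4), (sel (ones 960) ip2 5), (sel (ones 960) ip2 6), (sel (ones 960) ip2 7), (sel (ones 960) ip2 8), (sel (ones 960) ip2 9), (sel (ones 960) ip2 10), (sel (ones 960) ip2 11), (sel (ones 960) ip2 12), (sel (ones 960) ip2 13), (sel (ones 960) ip2 14), (sel (ones 960) ip2 15), (sel (ones 960) ip2 16), (sel (ones 960) ip2 17)] = true := by decide +kernel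

theorem tl2 : T.treeLt 10 2 = true := by decide +kernel

theorem rot3_1 : T.rot 3 [3] (sel (ones 960) ip3 1) = true := by decide +kernel

theorem rot3_1r : band (Rule.ok (2 * 6) EX RL ⟨3 :: [3], [], 18, false⟩) (lall (memL L) [3]) = true := by decide +kernel

theorem rot3_2 : T.rot 3 [1, 3, 1] (sel (ones 960) ip3 2) = true := by decide +kernel

theorem rot3_2r : band (Rule.ok (2 * 6) EX RL ⟨3 :: [1, 3, 1], [], 1, true⟩) (lall (memL L) [1, 3, 1]) = true := by decide +kernel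

theorem rot3_3 : T.rot 3 [4, 3, 4, 3, 4] (sel (ones 960) ip3 3) = true := by decide +kernel

theorem rot3_3r : band (Rule.ok (2 * 6) EX RL ⟨3 :: [4, 3, 4, 3, 4], [], 9, false⟩) (lall (memL L) [4, 3, 4, 3, 4]) = true := by decide +kernel

theorem rot3_4 : T.rot 3 [5, 3, 5, 3, 5] (sel (ones 960) ip3 4) = true := by decide +kernel

theorem rot3_4r : band (Rule.ok (2 * 6) EX RL ⟨3 :: [5, 3, 5, 3, 5], [], 10, false⟩) (lall (memL L) [5, 3, 5, 3, 5]) = true := by decide +kernel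

theorem rot3_5 : T.rot 3 [6, 3, 6, 3, 6] (sel (ones 960) ip3 5) = true := by decide +kernel

theorem rot3_5r : band (Rule.ok (2 * 6) EX RL ⟨3 :: [6, 3, 6, 3, 6], [], 11, false⟩) (lall (memL L) [6, 3, 6, 3, 6]) = true := by decide +kernel

theorem rot3_6 : T.rot 3 [2, 3, 2, 3, 2, 3, 2, 3, 1, 2] (sel (ones 960) ip3 6) = true := by decide +kernel

theorem rot3_6r : band (Rule.ok (2 * 6) EX RL ⟨3 :: [2, 3, 2, 3, 2, 3, 2, 3, 1, 2], [2], 16, true⟩) (lall (memL L) [2, 3, 2, 3, 2, 3, 2, 3, 1, 2]) = true := by decide +kernel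

theorem rot3_7 : T.rot 3 [2, 3, 2, 3, 2, 3, 1, 2, 3, 2] (sel (ones 960) ip3 7) = true := by decide +kernel

theorem rot3_7r : band (Rule.ok (2 * 6) EX RL ⟨3 :: [2, 3, 2, 3, 2, 3, 1, 2, 3, 2], [2, 4, 2], 16, true⟩) (lall (memL L) [2, 3, 2, 3, 2, 3, 1, 2, 3, 2]) = true := by decide +kernel

theorem rot3_8 : T.rot 3 [2, 3, 2, 3, 1, 2, 3, 2, 3, 2] (sel (ones 960) ip3 8) = true := by decide +kernel

theorem rot3_8r : band (Rule.ok (2 * 6) EX RL ⟨3 :: [2, 3, 2, 3, 1, 2, 3, 2, 3, 2], [2, 4, 2, 4, 2], 16, true⟩) (lall (memL L) [2, 3, 2, 3, 1, 2, 3, 2, 3, 2]) = true := by decide +kernel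

theorem rot3_9 : T.rot 3 [2, 3, 1, 2, 3, 2, 3, 2, 3, 2] (sel (ones 960) ip3 9) = true := by decide +kernel

theorem rot3_9r : band (Rule.ok (2 * 6) EX RL ⟨3 :: [2, 3, 1, 2, 3, 2, 3, 2, 3, 2], [0, 4, 2, 4], 16, true⟩) (lall (memL L) [2, 3, 1, 2, 3, 2, 3, 2, 3, 2]) = true := by decide +kernel

theorem rot3_10 : T.rot 3 [1, 2, 3, 2, 3, 2, 3, 2, 3, 2] (sel (ones 960) ip3 10) = true := by decide +kernel

theorem rot3_10r : band (Rule.ok (2 * 6) EX RL ⟨3 :: [1, 2, 3, 2, 3, 2, 3, 2, 3, 2], [0, 4], 16, true⟩) (lall (memL L) [1, 2, 3, 2, 3, 2, 3, 2, 3, 2]) = true := by decide +kernel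

theorem rot3_11 : T.rot 3 [2, 3, 2, 3, 2, 3, 2, 3, 2, 1] (sel (ones 960) ip3 11) = true := by decide +kernel

theorem rot3_11r : band (Rule.ok (2 * 6) EX RL ⟨3 :: [2, 3, 2, 3, 2, 3, 2, 3, 2, 1], [0], 16, false⟩) (lall (memL L) [2, 3, 2, 3, 2, 3, 2, 3, 2, 1]) = true := by decide +kernel

theorem rot3_12 : T.rot 3 [2, 3, 2, 3, 2, 3, 2, 1, 3, 2] (sel (ones 960) ip3 12) = true := by decide +kernel

theorem rot3_12r : band (Rule.ok (2 * 6) EX RL ⟨3 :: [2, 3, 2, 3, 2, 3, 2, 1, 3, 2], [0, 4, 2], 16, false⟩) (lall (memL L) [2, 3, 2, 3, 2, 3, 2, 1, 3, 2]) = true := by decide +kernel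

theorem rot3_13 : T.rot 3 [2, 3, 2, 3, 2, 1, 3, 2, 3, 2] (sel (ones 960) ip3 13) = true := by decide +kernel

theorem rot3_13r : band (Rule.ok (2 * 6) EX RL ⟨3 :: [2, 3, 2, 3, 2, 1, 3, 2, 3, 2], [0, 4, 2, 4, 2], 16, false⟩) (lall (memL L) [2, 3, 2, 3, 2, 1, 3, 2, 3, 2]) = true := by decide +kernel

theorem rot3_14 : T.rot 3 [2, 1, 3, 2, 3, 2, 3, 2, 3, 2] (sel (ones 960) ip3 14) = true := by decide +kernel

theorem rot3_14r : band (Rule.ok (2 * 6) EX RL ⟨3 :: [2, 1, 3, 2, 3, 2, 3, 2, 3, 2], [2, 4], 16, false⟩) (lall (memL L) [2, 1, 3, 2, 3, 2, 3, 2, 3, 2]) = true := by decide +kernel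

theorem rot3_15 : T.rot 3 [2, 6, 5, 3, 2, 6, 5, 3, 2, 6, 5, 3, 2, 6, 5] (sel (ones 960) ip3 15) = true := by decide +kernel

theorem rot3_15r : band (Rule.ok (2 * 6) EX RL ⟨3 :: [2, 6, 5, 3, 2, 6, 5, 3, 2, 6, 5, 3, 2, 6, 5], [2, 4], 17, true⟩) (lall (memL L) [2, 6, 5, 3, 2, 6, 5, 3, 2, 6, 5, 3, 2, 6, 5]) = true := by decide +kernel

theorem rot3_16 : T.rot 3 [5, 6, 2, 3, 5, 6, 2, 3, 5, 6, 2, 3, 5, 6, 2] (sel (ones 960) ip3 16) = true := by decide +kernel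

theorem rot3_16r : band (Rule.ok (2 * 6) EX RL ⟨3 :: [5, 6, 2, 3, 5, 6, 2, 3, 5, 6, 2, 3, 5, 6, 2], [2], 17, false⟩) (lall (memL L) [5, 6, 2, 3, 5, 6, 2, 3, 5, 6, 2, 3, 5, 6, 2]) = true := by decide +kernel

theorem rot3_17 : T.rot 3 [2, 3, 2, 3, 2, 3, 2, 3, 2, 3, 2, 3, 2, 3, 2, 3, 2, 3, 2] (sel (ones 960) ip3 17) = true := by decide +kernel

theorem rot3_17r : band (Rule.ok (2 * 6) EX RL ⟨3 :: [2, 3, 2, 3, 2, 3, 2, 3, 2, 3, 2, 3, 2, 3, 2, 3, 2, 3, 2], [], 5, true⟩) (lall (memL L) [2, 3, 2, 3, 2, 3, 2, 3, 2, 3, 2, 3, 2, 3, 2, 3, 2, 3, 2]) = true := by decide +kernel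

theorem cov3 : T.cover 3 [(sel (ones 960) ip3 1), (sel (ones 960) ip3 2), (sel (ones 960) ip3 3), (sel (ones 960) ip3 4), (sel (ones 960) ip3 5), (sel (ones 960) ip3 6), (sel (ones 960) ip3 7), (sel (ones 960) ip3 8), (sel (ones 960) ip3 9), (sel (ones 960) ip3 10), (sel (ones 960) ip3 11), (sel (ones 960) ip3 12), (sel (ones 960) ip3 13), (sel (ones 960) ip3 14), (sel (ones 960) ip3 15), (sel (ones 960) ip3 16), (sel (ones 960) ip3 17), 1] = true := by decide +kernel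

theorem tl3 : T.treeLt 10 3 = true := by decide +kernel

theorem rot4_1 : T.rot 4 [4] (sel (ones 960) ip4 1) = true := by decide +kernel

theorem rot4_1r : band (Rule.ok (2 * 6) EX RL ⟨4 :: [4], [], 18, false⟩) (lall (memL L) [4]) = true := by decide +kernel

theorem rot4_2 : T.rot 4 [1, 4, 1] (sel (ones 960) ip4 2) = true := by decide +kernel

theorem rot4_2r : band (Rule.ok (2 * 6) EX RL ⟨4 :: [1, 4, 1], [], 2, true⟩) (lall (memL L) [1, 4, 1]) = true := by decide +kernel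

theorem rot4_3 : T.rot 4 [2, 4, 2] (sel (ones 960) ip4 3) = true := by decide +kernel

theorem rot4_3r : band (Rule.ok (2 * 6) EX RL ⟨4 :: [2, 4, 2], [], 6, true⟩) (lall (memL L) [2, 4, 2]) = true := by decide +kernel

theorem rot4_4 : T.rot 4 [5, 4, 5] (sel (ones 960) ip4 4) = true := by decide +kernel

theorem rot4_4r : band (Rule.ok (2 * 6) EX RL ⟨4 :: [5, 4, 5], [], 12, false⟩) (lall (memL L) [5, 4, 5]) = true := by decide +kernel

theorem rot4_5 : T.rot 4 [6, 4, 6] (sel (ones 960) ip4 5) = true := by decide +kernel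

theorem rot4_5r : band (Rule.ok (2 * 6) EX RL ⟨4 :: [6, 4, 6], [], 13, false⟩) (lall (memL L) [6, 4, 6]) = true := by decide +kernel

theorem rot4_6 : T.rot 4 [5, 6, 5, 6] (sel (ones 960) ip4 6) = true := by decide +kernel

theorem rot4_6r : band (Rule.ok (2 * 6) EX RL ⟨4 :: [5, 6, 5, 6], [6], 15, true⟩) (lall (memL L) [5, 6, 5, 6]) = true := by decide +kernel

theorem rot4_7 : T.rot 4 [6, 5, 6, 5] (sel (ones 960) ip4 7) = true := by decide +kernel

theorem rot4_7r : band (Rule.ok (2 * 6) EX RL ⟨4 :: [6, 5, 6, 5], [], 15, false⟩) (lall (memL L) [6, 5, 6, 5]) = true := by decide +kernel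

theorem rot4_8 : T.rot 4 [3, 4, 3, 4, 3] (sel (ones 960) ip4 8) = true := by decide +kernel

theorem rot4_8r : band (Rule.ok (2 * 6) EX RL ⟨4 :: [3, 4, 3, 4, 3], [], 9, true⟩) (lall (memL L) [3, 4, 3, 4, 3]) = true := by decide +kernel

theorem cov4 : T.cover 4 [(sel (ones 960) ip4 1), (sel (ones 960) ip4 2), (sel (ones 960) ip4 3), (sel (ones 960) ip4 4), (sel (ones 960) ip4 5), (sel (ones 960) ip4 6), (sel (ones 960) ip4 7), (sel (ones 960) ip4 8), 1] = true := by decide +kernel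

theorem tl4 : T.treeLt 10 4 = true := by decide +kernel

theorem rot5_1 : T.rot 5 [5] (sel (ones 960) ip5 1) = true := by decide +kernel

theorem rot5_1r : band (Rule.ok (2 * 6) EX RL ⟨5 :: [5], [], 18, false⟩) (lall (memL L) [5]) = true := by decide +kernel

theorem rot5_2 : T.rot 5 [1, 5, 1] (sel (ones 960) ip5 2) = true := by decide +kernel

theorem rot5_2r : band (Rule.ok (2 * 6) EX RL ⟨5 :: [1, 5, 1], [], 3, true⟩) (lall (memL L) [1, 5, 1]) = true := by decide +kernel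

theorem rot5_3 : T.rot 5 [2, 5, 2] (sel (ones 960) ip5 3) = true := by decide +kernel

theorem rot5_3r : band (Rule.ok (2 * 6) EX RL ⟨5 :: [2, 5, 2], [], 7, true⟩) (lall (memL L) [2, 5, 2]) = true := by decide +kernel

theorem rot5_4 : T.rot 5 [4, 5, 4] (sel (ones 960) ip5 4) = true := by decide +kernel

theorem rot5_4r : band (Rule.ok (2 * 6) EX RL ⟨5 :: [4, 5, 4], [], 12, true⟩) (lall (memL L) [4, 5, 4]) = true := by decide +kernel

theorem rot5_5 : T.rot 5 [6, 5, 6, 4] (sel (ones 960) ip5 5) = true := by decide +kernel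

theorem rot5_5r : band (Rule.ok (2 * 6) EX RL ⟨5 :: [6, 5, 6, 4], [], 15, true⟩) (lall (memL L) [6, 5, 6, 4]) = true := by decide +kernel

theorem rot5_6 : T.rot 5 [6, 4, 5, 6] (sel (ones 960) ip5 6) = true := by decide +kernel

theorem rot5_6r : band (Rule.ok (2 * 6) EX RL ⟨5 :: [6, 4, 5, 6], [8, 10], 15, true⟩) (lall (memL L) [6, 4, 5, 6]) = true := by decide +kernel

theorem rot5_7 : T.rot 5 [6, 5, 4, 6] (sel (ones 960) ip5 7) = true := by decide +kernel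

theorem rot5_7r : band (Rule.ok (2 * 6) EX RL ⟨5 :: [6, 5, 4, 6], [6, 10], 15, false⟩) (lall (memL L) [6, 5, 4, 6]) = true := by decide +kernel

theorem rot5_8 : T.rot 5 [4, 6, 5, 6] (sel (ones 960) ip5 8) = true := by decide +kernel

theorem rot5_8r : band (Rule.ok (2 * 6) EX RL ⟨5 :: [4, 6, 5, 6], [8], 15, false⟩) (lall (memL L) [4, 6, 5, 6]) = true := by decide +kernel

theorem rot5_9 : T.rot 5 [3, 5, 3, 5, 3] (sel (ones 960) ip5 9) = true := by decide +kernel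

theorem rot5_9r : band (Rule.ok (2 * 6) EX RL ⟨5 :: [3, 5, 3, 5, 3], [], 10, true⟩) (lall (memL L) [3, 5, 3, 5, 3]) = true := by decide +kernel

theorem rot5_10 : T.rot 5 [6, 5, 6, 5, 6, 5, 6] (sel (ones 960) ip5 10) = true := by decide +kernel

theorem rot5_10r : band (Rule.ok (2 * 6) EX RL ⟨5 :: [6, 5, 6, 5, 6, 5, 6], [], 14, false⟩) (lall (memL L) [6, 5, 6, 5, 6, 5, 6]) = true := by decide +kernel

theorem rot5_11 : T.rot 5 [3, 2, 6, 5, 3, 2, 6, 5, 3, 2, 6, 5, 3, 2, 6] (sel (ones 960) ip5 11) = true := by decide +kernel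

theorem rot5_11r : band (Rule.ok (2 * 6) EX RL ⟨5 :: [3, 2, 6, 5, 3, 2, 6, 5, 3, 2, 6, 5, 3, 2, 6], [10], 17, true⟩) (lall (memL L) [3, 2, 6, 5, 3, 2, 6, 5, 3, 2, 6, 5, 3, 2, 6]) = true := by decide +kernel

theorem rot5_12 : T.rot 5 [6, 2, 3, 5, 6, 2, 3, 5, 6, 2, 3, 5, 6, 2, 3] (sel (ones 960) ip5 12) = true := by decide +kernel

theorem rot5_12r : band (Rule.ok (2 * 6) EX RL ⟨5 :: [6, 2, 3, 5, 6, 2, 3, 5, 6, 2, 3, 5, 6, 2, 3], [10, 8], 17, false⟩) (lall (memL L) [6, 2, 3, 5, 6, 2, 3, 5, 6, 2, 3, 5, 6, 2, 3]) = true := by decide +kernel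

theorem cov5 : T.cover 5 [(sel (ones 960) ip5 1), (sel (ones 960) ip5 2), (sel (ones 960) ip5 3), (sel (ones 960) ip5 4), (sel (ones 960) ip5 5), (sel (ones 960) ip5 6), (sel (ones 960) ip5 7), (sel (ones 960) ip5 8), (sel (ones 960) ip5 9), (sel (ones 960) ip5 10), (sel (ones 960) ip5 11), (sel (ones 960) ip5 12), 1] = true := by decide +kernel

theorem tl5 : T.treeLt 10 5 = true := by decide +kernel

theorem rot6_1 : T.rot 6 [6] (sel (ones 960) ip6 1) = true := by decide +kernel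

theorem rot6_1r : band (Rule.ok (2 * 6) EX RL ⟨6 :: [6], [], 18, false⟩) (lall (memL L) [6]) = true := by decide +kernel

theorem rot6_2 : T.rot 6 [1, 6, 1] (sel (ones 960) ip6 2) = true := by decide +kernel

theorem rot6_2r : band (Rule.ok (2 * 6) EX RL ⟨6 :: [1, 6, 1], [], 4, true⟩) (lall (memL L) [1, 6, 1]) = true := by decide +kernel

theorem rot6_3 : T.rot 6 [2, 6, 2] (sel (ones 960) ip6 3) = true := by decide +kernel

theorem rot6_3r : band (Rule.ok (2 * 6) EX RL ⟨6 :: [2, 6, 2], [], 8, true⟩) (lall (memL L) [2, 6, 2]) = true := by decide +kernel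

theorem rot6_4 : T.rot 6 [4, 6, 4] (sel (ones 960) ip6 4) = true := by decide +kernel

theorem rot6_4r : band (Rule.ok (2 * 6) EX RL ⟨6 :: [4, 6, 4], [], 13, true⟩) (lall (memL L) [4, 6, 4]) = true := by decide +kernel

theorem rot6_5 : T.rot 6 [5, 6, 4, 5] (sel (ones 960) ip6 5) = true := by decide +kernel

theorem rot6_5r : band (Rule.ok (2 * 6) EX RL ⟨6 :: [5, 6, 4, 5], [8], 15, true⟩) (lall (memL L) [5, 6, 4, 5]) = true := by decide +kernel

theorem rot6_6 : T.rot 6 [4, 5, 6, 5] (sel (ones 960) ip6 6) = true := by decide +kernel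

theorem rot6_6r : band (Rule.ok (2 * 6) EX RL ⟨6 :: [4, 5, 6, 5], [6, 10], 15, true⟩) (lall (memL L) [4, 5, 6, 5]) = true := by decide +kernel

theorem rot6_7 : T.rot 6 [5, 6, 5, 4] (sel (ones 960) ip6 7) = true := by decide +kernel

theorem rot6_7r : band (Rule.ok (2 * 6) EX RL ⟨6 :: [5, 6, 5, 4], [6], 15, false⟩) (lall (memL L) [5, 6, 5, 4]) = true := by decide +kernel

theorem rot6_8 : T.rot 6 [5, 4, 6, 5] (sel (ones 960) ip6 8) = true := by decide +kernel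

theorem rot6_8r : band (Rule.ok (2 * 6) EX RL ⟨6 :: [5, 4, 6, 5], [8, 10], 15, false⟩) (lall (memL L) [5, 4, 6, 5]) = true := by decide +kernel

theorem rot6_9 : T.rot 6 [3, 6, 3, 6, 3] (sel (ones 960) ip6 9) = true := by decide +kernel

theorem rot6_9r : band (Rule.ok (2 * 6) EX RL ⟨6 :: [3, 6, 3, 6, 3], [], 11, true⟩) (lall (memL L) [3, 6, 3, 6, 3]) = true := by decide +kernel

theorem rot6_10 : T.rot 6 [5, 3, 2, 6, 5, 3, 2, 6, 5, 3, 2, 6, 5, 3, 2] (sel (ones 960) ip6 10) = true := by decide +kernel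

theorem rot6_10r : band (Rule.ok (2 * 6) EX RL ⟨6 :: [5, 3, 2, 6, 5, 3, 2, 6, 5, 3, 2, 6, 5, 3, 2], [], 17, true⟩) (lall (memL L) [5, 3, 2, 6, 5, 3, 2, 6, 5, 3, 2, 6, 5, 3, 2]) = true := by decide +kernel

theorem rot6_11 : T.rot 6 [2, 3, 5, 6, 2, 3, 5, 6, 2, 3, 5, 6, 2, 3, 5] (sel (ones 960) ip6 11) = true := by decide +kernel

theorem rot6_11r : band (Rule.ok (2 * 6) EX RL ⟨6 :: [2, 3, 5, 6, 2, 3, 5, 6, 2, 3, 5, 6, 2, 3, 5], [10], 17, false⟩) (lall (memL L) [2, 3, 5, 6, 2, 3, 5, 6, 2, 3, 5, 6, 2, 3, 5]) = true := by decide +kernel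

theorem cov6 : T.cover 6 [(sel (ones 960) ip6 1), (sel (ones 960) ip6 2), (sel (ones 960) ip6 3), (sel (ones 960) ip6 4), (sel (ones 960) ip6 5), (sel (ones 960) ip6 6), (sel (ones 960) ip6 7), (sel (ones 960) ip6 8), (sel (ones 960) ip6 9), (sel (ones 960) ip6 10), (sel (ones 960) ip6 11), 1] = true := by decide +kernel

theorem tl6 : T.treeLt 10 6 = true := by decide +kernel

end Cfsg.Agent.Spor.HeP960
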